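import Cfsg.Agent.Lib.LieFpf.GroupLie
import Cfsg.Agent.Lib.FpfFour.Basic

/-!
A finite Lie ring with a fixed-point-free automorphism of prime order `p`, of additive exponent prime
to `p`, is nilpotent of bounded class (Higman, Kreknin, Kostrikin); the consequence for groups.
-/

set_option autoImplicit false

namespace Cfsg.Agent.Lib.LieFpf

open scoped TensorProduct

/-- The coefficient ring `ℤ[ω]`. -/
noncomputable abbrev CycRing (p : ℕ) : Type := AdjoinRoot (Polynomial.cyclotomic p ℤ)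

/-- The powers of `ω`, indexed by `ZMod p`. -/
noncomputable def chi {p : ℕ} (a : ZMod p) : CycRing p :=
  AdjoinRoot.root (Polynomial.cyclotomic p ℤ) ^ a.val

variable {p : ℕ} [hp : Fact p.Prime]

theorem geom_root_eq_zero :
    ∑ i ∈ Finset.range p, (AdjoinRoot.root (Polynomial.cyclotomic p ℤ)) ^ i = 0 := by
  have h := AdjoinRoot.eval₂_root (Polynomial.cyclotomic p ℤ)
  have h2 : Polynomial.cyclotomic p ℤ = ∑ i ∈ Finset.range p, Polynomial.X ^ i :=
    Polynomial.cyclotomic_prime ℤ p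
  conv_lhs at h => arg 3; rw [h2]
  simpa [Polynomial.eval₂_finset_sum] using h

theorem root_pow_prime : (AdjoinRoot.root (Polynomial.cyclotomic p ℤ)) ^ p = 1 := by
  have h := geom_sum_mul (AdjoinRoot.root (Polynomial.cyclotomic p ℤ)) p
  rw [geom_root_eq_zero, zero_mul] at h
  exact sub_eq_zero.1 h.symm

theorem chi_zero : chi (0 : ZMod p) = 1 := by simp [chi]

theorem chi_add (a b : ZMod p) : chi (a + b) = chi a * chi b := by
  rw [chi, chi, chi, ← pow_add, ZMod.val_add]
  exact (pow_eq_pow_mod _ root_pow_prime).symm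

theorem sum_chi : ∑ a : ZMod p, chi a = 0 := by
  refine Eq.trans ?_ geom_root_eq_zero
  refine Finset.sum_bij' (fun a _ => a.val) (fun i _ => (i : ZMod p)) ?_ ?_ ?_ ?_ ?_
  · intro a _; exact Finset.mem_range.2 (ZMod.val_lt a)
  · intro i _; exact Finset.mem_univ _
  · intro a _; exact ZMod.natCast_zmod_val a
  · intro i hi; exact ZMod.val_natCast_of_lt (Finset.mem_range.1 hi)
  · intro a _; rfl

variable {L : Type*} [LieRing L] [Finite L]

/-- The eigen-family of an automorphism after extension of scalars. -/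
noncomputable def eigenFam (T : L →+ L) (j : ZMod p) : AddSubgroup (CycRing p ⊗[ℤ] L) where
  carrier := {v | LinearMap.baseChange (CycRing p) T.toIntLinearMap v = chi j • v}
  zero_mem' := by show _ = _; rw [map_zero, smul_zero]
  add_mem' {v w} hv hw := by
    show _ = _
    rw [map_add, smul_add]
    exact congrArg₂ (· + ·) hv hw
  neg_mem' {v} hv := by
    show _ = _
    rw [map_neg, smul_neg]
    exact congrArg Neg.neg hv

section Ext

omit hp [Finite L]

local notation "RR" => CycRing p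

theorem ext_zero_lie (w : RR ⊗[ℤ] L) : ⁅(0 : RR ⊗[ℤ] L), w⁆ = 0 := zero_lie w

theorem ext_lie_zero (w : RR ⊗[ℤ] L) : ⁅w, (0 : RR ⊗[ℤ] L)⁆ = 0 := lie_zero w

theorem ext_add_lie (a b w : RR ⊗[ℤ] L) : ⁅a + b, w⁆ = ⁅a, w⁆ + ⁅b, w⁆ := add_lie a b w

theorem ext_lie_add (w a b : RR ⊗[ℤ] L) : ⁅w, a + b⁆ = ⁅w, a⁆ + ⁅w, b⁆ := lie_add w a b

theorem ext_smul_smul_lie (r s : RR) (a b : RR ⊗[ℤ] L) : ⁅r • a, s • b⁆ = (r * s) • ⁅a, b⁆ := by
  have h : ∀ a b : RR ⊗[ℤ] L, ⁅a, s • b⁆ = s • ⁅a, b⁆ := fun a b => lie_smul s a b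
  have h' : ∀ a b : RR ⊗[ℤ] L, ⁅r • a, b⁆ = r • ⁅a, b⁆ := fun a b => smul_lie r a b
  rw [h', h, smul_smul]

end Ext

theorem baseChange_lie (T : L →+ L) (hT : ∀ x y, T ⁅x, y⁆ = ⁅T x, T y⁆)
    (v w : CycRing p ⊗[ℤ] L) :
    LinearMap.baseChange (CycRing p) T.toIntLinearMap ⁅v, w⁆ =
      ⁅LinearMap.baseChange (CycRing p) T.toIntLinearMap v,
        LinearMap.baseChange (CycRing p) T.toIntLinearMap w⁆ := by
  induction v using TensorProduct.induction_on with
  | zero => rw [map_zero, ext_zero_lie, ext_zero_lie, map_zero]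
  | add a b ha hb => rw [ext_add_lie, map_add, map_add, ext_add_lie, ha, hb]
  | tmul r x =>
    induction w using TensorProduct.induction_on with
    | zero => rw [map_zero, ext_lie_zero, ext_lie_zero, map_zero]
    | add a b ha hb => rw [ext_lie_add, map_add, map_add, ext_lie_add, ha, hb]
    | tmul s y => simp [LieAlgebra.ExtendScalars.bracket_tmul, hT]

theorem isClosedFam_eigenFam (T : L →+ L) (hT : ∀ x y, T ⁅x, y⁆ = ⁅T x, T y⁆) :
    IsClosedFam (eigenFam (p := p) T) := by
  intro i j a ha b hb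
  show _ = _
  rw [baseChange_lie T hT, show LinearMap.baseChange (CycRing p) T.toIntLinearMap a = chi i • a from ha,
    show LinearMap.baseChange (CycRing p) T.toIntLinearMap b = chi j • b from hb, ext_smul_smul_lie,
    chi_add]

theorem eigenFam_zero (T : L →+ L) (hfix : ∀ x, T x = x → x = 0) :
    eigenFam (p := p) T 0 = ⊥ := by
  rw [eq_bot_iff]
  intro v hv
  rw [AddSubgroup.mem_bot]
  set U : L →+ L := T - AddMonoidHom.id L with hU
  have hinj : Function.Injective U := (injective_iff_map_eq_zero _).2 fun x hx =>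
    hfix x (sub_eq_zero.1 hx)
  obtain ⟨V, hV⟩ : ∃ V : L →+ L, ∀ x, V (U x) = x := by
    let e := AddEquiv.ofBijective U ⟨hinj, Finite.surjective_of_injective hinj⟩
    exact ⟨e.symm.toAddMonoidHom, fun x => e.symm_apply_apply x⟩
  have key : ∀ w : CycRing p ⊗[ℤ] L, LinearMap.baseChange (CycRing p) V.toIntLinearMap
      (LinearMap.baseChange (CycRing p) T.toIntLinearMap w - w) = w := by
    intro w
    induction w using TensorProduct.induction_on with
    | zero => simp
    | add a b ha hb =>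
      rw [map_add, show ∀ s t u v : CycRing p ⊗[ℤ] L, s + t - (u + v) = (s - u) + (t - v) from
        fun s t u v => by abel, map_add, ha, hb]
    | tmul r x =>
      rw [LinearMap.baseChange_tmul, ← TensorProduct.tmul_sub, LinearMap.baseChange_tmul]
      show r ⊗ₜ[ℤ] V (U x) = _
      rw [hV]
  have h := key v
  have hv' : LinearMap.baseChange (CycRing p) T.toIntLinearMap v = chi (0 : ZMod p) • v := hv
  rw [hv', chi_zero, one_smul, sub_self, map_zero] at h
  exact h.symm

theorem mem_iSup_eigenFam (T : L →+ L) (hTp : ∀ x, (⇑T)^[p] x = x) {N : ℕ} (hN : ∀ x : L, N • x = 0)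
    (hNp : N.Coprime p) (w : CycRing p ⊗[ℤ] L) : w ∈ ⨆ j, eigenFam (p := p) T j := by
  set T' := LinearMap.baseChange (CycRing p) T.toIntLinearMap with hT'
  have hpow : ∀ (n : ℕ) (r : CycRing p) (x : L), (T' ^ n) (r ⊗ₜ[ℤ] x) = r ⊗ₜ[ℤ] ((⇑T)^[n] x) := by
    intro n
    induction n with
    | zero => intro r x; rfl
    | succ n ih =>
      intro r x
      rw [pow_succ, Module.End.mul_apply, hT', LinearMap.baseChange_tmul, ← hT', ih,
        Function.iterate_succ_apply]
      rfl
  have hperiod : T' ^ p = 1 := by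
    refine LinearMap.ext fun v => ?_
    induction v using TensorProduct.induction_on with
    | zero => simp
    | add a b ha hb => rw [map_add, map_add, ha, hb]
    | tmul r x => rw [hpow, hTp]; rfl
  let f : ZMod p → Module.End (CycRing p) (CycRing p ⊗[ℤ] L) := fun a => T' ^ a.val
  have hf : ∀ a b, f (a + b) = f a * f b := by
    intro a b
    show T' ^ (a + b).val = T' ^ a.val * T' ^ b.val
    rw [← pow_add, ZMod.val_add]
    exact (pow_eq_pow_mod _ hperiod).symm
  have hf1 : f 1 = T' := by show T' ^ (1 : ZMod p).val = T'; rw [ZMod.val_one, pow_one]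
  set e : ZMod p → CycRing p ⊗[ℤ] L → CycRing p ⊗[ℤ] L :=
    fun j v => ∑ a : ZMod p, chi (-(j * a)) • f a v with he
  have hmem : ∀ j v, e j v ∈ eigenFam (p := p) T j := by
    intro j v
    show T' (e j v) = chi j • e j v
    simp only [he, map_sum, map_smul, Finset.smul_sum, smul_smul, ← chi_add]
    rw [← Equiv.sum_comp (Equiv.addRight (1 : ZMod p)) (fun a => chi (j + -(j * a)) • f a v)]
    refine Finset.sum_congr rfl fun a _ => ?_
    simp only [Equiv.coe_addRight]
    rw [show j + -(j * (a + 1)) = -(j * a) by ring, add_comm a 1, hf, hf1, Module.End.mul_apply]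
  have hsum : ∀ v, ∑ j : ZMod p, e j v = p • v := by
    intro v
    simp only [he]
    rw [Finset.sum_comm, Finset.sum_eq_single (0 : ZMod p)]
    · simp [chi_zero, f, ZMod.card, Finset.sum_const, Finset.card_univ]
    · intro a _ ha
      rw [← Finset.sum_smul]
      have : ∑ j : ZMod p, chi (-(j * a)) = 0 := by
        rw [← sum_chi (p := p)]
        exact Equiv.sum_comp ((Equiv.mulRight₀ a ha).trans (Equiv.neg (ZMod p))) chi
      rw [this, zero_smul]
    · exact fun h => absurd (Finset.mem_univ _) h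
  have hNw : ∀ v : CycRing p ⊗[ℤ] L, N • v = 0 := by
    intro v
    induction v using TensorProduct.induction_on with
    | zero => simp
    | add a b ha hb => rw [nsmul_add, ha, hb, add_zero]
    | tmul r x => rw [← TensorProduct.tmul_smul, hN, TensorProduct.tmul_zero]
  obtain ⟨t, ht⟩ : ∃ t : ℤ, ((t * p : ℤ) : ℤ) ≡ 1 [ZMOD (N : ℤ)] := by
    refine ⟨Nat.gcdB N p, (Int.modEq_iff_dvd.2 ⟨Nat.gcdA N p, ?_⟩)⟩
    have h := Nat.gcd_eq_gcd_ab N p
    rw [show Nat.gcd N p = 1 from hNp, Nat.cast_one] at h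
    linarith
  have hw : w = t • ((p : ℕ) • w) := by
    rw [← natCast_zsmul, smul_smul]
    obtain ⟨u, hu⟩ := Int.modEq_iff_dvd.1 ht.symm
    rw [show t * (p : ℤ) = 1 + (N : ℤ) * u by linarith, add_smul, one_smul, mul_comm, mul_smul,
      natCast_zsmul, hNw, smul_zero, add_zero]
  rw [hw, ← hsum w]
  exact AddSubgroup.zsmul_mem _
    (AddSubgroup.sum_mem _ fun j _ => le_iSup (eigenFam (p := p) T) j (hmem j w)) t

omit [Finite L] in
theorem lieLcs_le_iSup {M : Type*} [LieRing M] {E : ZMod p → AddSubgroup M}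
    (hspan : ∀ w : M, w ∈ ⨆ j, E j) : ∀ n, lieLcs M n ≤ ⨆ d, lcf E n d := by
  intro n
  induction n with
  | zero => exact fun w _ => hspan w
  | succ n ih =>
    refine bk_le fun a ha b hbtop => ?_
    clear hbtop
    refine lie_mem_of_mem_iSup_left (fun i u hu => ?_) (ih ha)
    have hb := hspan b
    induction hb using AddSubgroup.iSup_induction' with
    | hp j v hv =>
      refine le_iSup (fun d => lcf E (n + 1) d) (i + j) (le_iSup (fun t => bk (lcf E n t) (E (i + j - t))) i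
        (lie_mem_bk hu ?_))
      rwa [add_sub_cancel_left]
    | h1 => rw [lie_zero]; exact zero_mem _
    | hadd x y _ _ h1 h2 => rw [lie_add]; exact add_mem h1 h2

theorem lieLcs_eq_bot_of_lcf (T : L →+ L) (hTp : ∀ x, (⇑T)^[p] x = x) {N : ℕ}
    (hN : ∀ x : L, N • x = 0) (hNp : N.Coprime p) {n : ℕ}
    (h : ∀ d, lcf (eigenFam (p := p) T) n d = ⊥) : lieLcs L n = ⊥ := by
  have hone : ∀ m, ∀ x ∈ lieLcs L m, (1 : CycRing p) ⊗ₜ[ℤ] x ∈ lieLcs (CycRing p ⊗[ℤ] L) m := by
    intro m
    induction m with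
    | zero => intro x _; trivial
    | succ m ih =>
      intro x hx
      have hle : lieLcs L (m + 1) ≤ (lieLcs (CycRing p ⊗[ℤ] L) (m + 1)).comap
          ((TensorProduct.mk ℤ (CycRing p) L 1).toAddMonoidHom) := by
        refine bk_le fun a ha b _ => ?_
        show (1 : CycRing p) ⊗ₜ[ℤ] ⁅a, b⁆ ∈ lieLcs (CycRing p ⊗[ℤ] L) (m + 1)
        have e : ⁅(1 : CycRing p) ⊗ₜ[ℤ] a, (1 : CycRing p) ⊗ₜ[ℤ] b⁆ = (1 : CycRing p) ⊗ₜ[ℤ] ⁅a, b⁆ := by
          rw [LieAlgebra.ExtendScalars.bracket_tmul, one_mul]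
        rw [← e]
        exact lie_mem_bk (ih a ha) (AddSubgroup.mem_top _)
      exact hle hx
  rw [eq_bot_iff]
  intro x hx
  have h1 := lieLcs_le_iSup (mem_iSup_eigenFam T hTp hN hNp) n (hone n x hx)
  simp only [h, iSup_bot, AddSubgroup.mem_bot] at h1
  -- `L` embeds in the extension
  let pb := AdjoinRoot.powerBasis' (Polynomial.cyclotomic.monic p ℤ)
  have hdim : 0 < pb.dim := by
    show 0 < (Polynomial.cyclotomic p ℤ).natDegree
    rw [Polynomial.natDegree_cyclotomic]
    exact Nat.totient_pos.2 hp.out.pos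
  let π : CycRing p →ₗ[ℤ] ℤ := (pb.basis.coord ⟨0, hdim⟩).toAddMonoidHom.toIntLinearMap
  have hπ : π 1 = 1 := by
    show pb.basis.coord ⟨0, hdim⟩ 1 = 1
    have e : pb.basis ⟨0, hdim⟩ = 1 := by rw [pb.basis_eq_pow, pow_zero]
    rw [← e, Module.Basis.coord_apply, Module.Basis.repr_self, Finsupp.single_eq_same]
  have h2 := congrArg (fun v => TensorProduct.lid ℤ L (LinearMap.rTensor L π v)) h1
  simp only [LinearMap.rTensor_tmul, TensorProduct.lid_tmul, hπ, map_zero, one_smul] at h2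
  exact h2

theorem lcf_three_eq_bot {M : Type*} [LieRing M] {E : ZMod 3 → AddSubgroup M} (hE : IsClosedFam E)
    (hE0 : E 0 = ⊥) (d : ZMod 3) : lcf E 2 d = ⊥ := by
  have hz : ∀ {i : ZMod 3} {x : M}, i = 0 → x ∈ E i → x = 0 := fun {i x} hi hx => by
    rwa [hi, hE0, AddSubgroup.mem_bot] at hx
  rw [eq_bot_iff]
  refine iSup_le fun e => bk_le fun a ha b hb => ?_
  rw [AddSubgroup.mem_bot]
  refine (AddSubgroup.mem_bot).1 (lie_mem_of_mem_iSup_left (C := ⊥) (fun i u hu => ?_) ha)
  refine lie_mem_of_left ?_ hu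
  rintro _ ⟨x, hx, y, hy, rfl⟩
  rw [AddSubgroup.mem_bot]
  have hdec : ∀ i j k : ZMod 3, i = 0 ∨ j = 0 ∨ k = 0 ∨ i + j = 0 ∨ i + j + k = 0 ∨
      (j + k = 0 ∧ i + k = 0) := by decide
  rcases hdec i (e - i) (d - e) with h | h | h | h | h | ⟨h, h'⟩
  · rw [hz h hx, zero_lie, zero_lie]
  · rw [hz h hy, lie_zero, zero_lie]
  · rw [hz h hb, lie_zero]
  · rw [hz h (hE _ _ _ hx _ hy), zero_lie]
  · exact hz h (hE _ _ _ (hE _ _ _ hx _ hy) _ hb)
  · rw [lie_lie, hz h (hE _ _ _ hy _ hb), hz h' (hE _ _ _ hx _ hb), lie_zero, lie_zero, sub_zero]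

omit [Finite L] in
theorem isIdealFam_bot {M : Type*} [LieRing M] (E : ZMod p → AddSubgroup M) :
    IsIdealFam E (fun _ => ⊥) := by
  refine ⟨fun _ => bot_le, fun i j a ha b _ => ?_⟩
  rw [AddSubgroup.mem_bot.1 ha, zero_lie]
  exact zero_mem _

/-- The two class bounds. -/
theorem lieLcs_eq_bot (T : L →+ L) (hT : ∀ x y, T ⁅x, y⁆ = ⁅T x, T y⁆)
    (hTp : ∀ x, (⇑T)^[p] x = x) (hfix : ∀ x, T x = x → x = 0) {N : ℕ} (hN : ∀ x : L, N • x = 0)
    (hNp : N.Coprime p) :
    lieLcs L (∑ i ∈ Finset.range (2 ^ (p - 1) - 1), (p - 1) ^ i) = ⊥ ∧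
      (p = 3 → lieLcs L 2 = ⊥) := by
  have hE := isClosedFam_eigenFam (p := p) T hT
  have hE0 := eigenFam_zero (p := p) T hfix
  refine ⟨lieLcs_eq_bot_of_lcf T hTp hN hNp fun d => le_bot_iff.1 ?_, ?_⟩
  · exact lcf_le_of_der_le hE hE0 _ _ (isIdealFam_bot _) (fun e => (der_eq_bot hE hE0 e).le) d
  · rintro rfl
    exact lieLcs_eq_bot_of_lcf T hTp hN hNp (lcf_three_eq_bot hE hE0)

omit hp [Finite L] in
/-- Class bounds for a finite nilpotent group with a fixed-point-free automorphism of prime order. -/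
theorem gam_le_succ {G : Type*} [Group G] [Finite G] {p : ℕ} [hp : Fact p.Prime] (α : MulAut G)
    (hα : α ^ p = 1) (hfpf : ∀ g : G, α g = g → g = 1) :
    (gam G (∑ i ∈ Finset.range (2 ^ (p - 1) - 1), (p - 1) ^ i) ≤
      gam G (∑ i ∈ Finset.range (2 ^ (p - 1) - 1), (p - 1) ^ i + 1)) ∧
    (p = 3 → gam G 2 ≤ gam G 3) := by
  have hcop : (Nat.card G).Coprime p := by
    have hz : IsPGroup p (Subgroup.zpowers α) := by
      intro a
      refine ⟨1, ?_⟩
      obtain ⟨i, hi⟩ := Subgroup.mem_zpowers_iff.1 a.2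
      refine Subtype.ext ?_
      rw [pow_one, Subgroup.coe_pow, ← hi, ← zpow_natCast, ← zpow_mul, mul_comm, zpow_mul,
        zpow_natCast, hα, one_zpow]
      rfl
    have h := hz.card_modEq_card_fixedPoints G
    have h1 : MulAction.fixedPoints (Subgroup.zpowers α) G = {1} :=
      Set.eq_singleton_iff_unique_mem.2 ⟨fun a => map_one (a : MulAut G),
        fun g hg => hfpf g (hg ⟨α, Subgroup.mem_zpowers α⟩)⟩
    rw [h1] at h
    have h2 : Nat.card G ≡ 1 [MOD p] := by simpa using h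
    exact (hp.out.coprime_iff_not_dvd.2 fun hd =>
      hp.out.not_dvd_one ((h2.dvd_iff dvd_rfl).1 hd)).symm
  have key : ∀ c : ℕ,
      lieLcs (GLie G c) (∑ i ∈ Finset.range (2 ^ (p - 1) - 1), (p - 1) ^ i) = ⊥ ∧
        (p = 3 → lieLcs (GLie G c) 2 = ⊥) := by
    intro c
    haveI : Finite (GLie G c) := inferInstanceAs (Finite ((n : Fin c) → Layer G n))
    refine lieLcs_eq_bot (glieMap α.toMonoidHom) (glieMap_lie _) ?_ ?_ nsmul_card_eq_zero hcop
    · intro x
      have hit : ∀ m, (⇑(glieMap (c := c) α.toMonoidHom))^[m] x = glieMap (α ^ m).toMonoidHom x := by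
        intro m
        induction m with
        | zero => exact (glieMap_id x).symm
        | succ m ih =>
          rw [Function.iterate_succ_apply', ih, ← glieMap_comp, pow_succ']
          rfl
      rw [hit, hα]
      exact glieMap_id x
    · intro x hx
      refine GLie.ext fun n => ?_
      obtain ⟨u, hu, hue⟩ := lay_surjective (n : ℕ) (x n)
      have h2 : layerMap α.toMonoidHom n (x n) = x n := congrFun hx n
      rw [hue, layerMap_lay] at h2
      show x n = 0
      rw [hue, lay_eq_zero]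
      refine FpfFour.mem_of_inv_mul_mem α hfpf (fun v hv => map_mem_gam α.toMonoidHom hv) ?_
      exact Subgroup.mem_subgroupOf.1 (QuotientGroup.eq.1 (congrArg Additive.toMul h2).symm)
  have down : ∀ n, lieLcs (GLie G (n + 1)) n = ⊥ → gam G n ≤ gam G (n + 1) := by
    intro n hn g hg
    have h := emb_mem_lieLcs (c := n + 1) n (Nat.lt_succ_self n) g hg
    rw [hn, AddSubgroup.mem_bot] at h
    have h2 := congrFun h ⟨n, Nat.lt_succ_self n⟩
    rw [emb_same] at h2
    exact (lay_eq_zero hg).1 h2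
  exact ⟨down _ (key _).1, fun h3 => down 2 ((key 3).2 h3)⟩

end Cfsg.Agent.Lib.LieFpf
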