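import Mathlib

/-!
Lie rings with a grading by `ZMod p` with trivial zero component (Higman, Kreknin, Kostrikin):
derived length at most `2 ^ (p - 1) - 1`, and the class is bounded in terms of the derived length.
A grading is given by a family of additive subgroups; independence is never needed.
-/

set_option autoImplicit false

namespace Cfsg.Agent.Lib.LieFpf

variable {L : Type*} [LieRing L] {p : ℕ}

/-- The additive subgroup generated by the brackets. -/
def bk (A B : AddSubgroup L) : AddSubgroup L :=
  AddSubgroup.closure {z | ∃ a ∈ A, ∃ b ∈ B, ⁅a, b⁆ = z}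

theorem lie_mem_bk {A B : AddSubgroup L} {a b : L} (ha : a ∈ A) (hb : b ∈ B) : ⁅a, b⁆ ∈ bk A B :=
  AddSubgroup.subset_closure ⟨a, ha, b, hb, rfl⟩

theorem bk_le {A B C : AddSubgroup L} (h : ∀ a ∈ A, ∀ b ∈ B, ⁅a, b⁆ ∈ C) : bk A B ≤ C :=
  (AddSubgroup.closure_le _).2 fun _ ⟨a, ha, b, hb, he⟩ => he ▸ h a ha b hb

theorem bk_mono {A A' B B' : AddSubgroup L} (h : A ≤ A') (h' : B ≤ B') : bk A B ≤ bk A' B' :=
  bk_le fun _ ha _ hb => lie_mem_bk (h ha) (h' hb)

theorem lie_mem_of_left {C : AddSubgroup L} {S : Set L} {b : L} (h : ∀ a ∈ S, ⁅a, b⁆ ∈ C)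
    {x : L} (hx : x ∈ AddSubgroup.closure S) : ⁅x, b⁆ ∈ C := by
  induction hx using AddSubgroup.closure_induction with
  | mem a ha => exact h a ha
  | zero => rw [zero_lie]; exact C.zero_mem
  | add a c _ _ h1 h2 => rw [add_lie]; exact C.add_mem h1 h2
  | neg a _ h1 => rw [neg_lie]; exact C.neg_mem h1

theorem lie_mem_of_right {C : AddSubgroup L} {S : Set L} {b : L} (h : ∀ a ∈ S, ⁅b, a⁆ ∈ C)
    {x : L} (hx : x ∈ AddSubgroup.closure S) : ⁅b, x⁆ ∈ C := by
  induction hx using AddSubgroup.closure_induction with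
  | mem a ha => exact h a ha
  | zero => rw [lie_zero]; exact C.zero_mem
  | add a c _ _ h1 h2 => rw [lie_add]; exact C.add_mem h1 h2
  | neg a _ h1 => rw [lie_neg]; exact C.neg_mem h1

theorem lie_mem_of_mem_iSup_left {ι : Sort*} {A : ι → AddSubgroup L} {C : AddSubgroup L} {b : L}
    (h : ∀ i, ∀ a ∈ A i, ⁅a, b⁆ ∈ C) {x : L} (hx : x ∈ ⨆ i, A i) : ⁅x, b⁆ ∈ C := by
  induction hx using AddSubgroup.iSup_induction' with
  | hp i a ha => exact h i a ha
  | h1 => rw [zero_lie]; exact C.zero_mem
  | hadd a c _ _ h1 h2 => rw [add_lie]; exact C.add_mem h1 h2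

/-- A family closed under brackets. -/
def IsClosedFam (R : ZMod p → AddSubgroup L) : Prop :=
  ∀ i j, ∀ a ∈ R i, ∀ b ∈ R j, ⁅a, b⁆ ∈ R (i + j)

/-- `B` is an ideal of the family `R`. -/
def IsIdealFam (R B : ZMod p → AddSubgroup L) : Prop :=
  (∀ d, B d ≤ R d) ∧ ∀ i j, ∀ a ∈ B i, ∀ b ∈ R j, ⁅a, b⁆ ∈ B (i + j)

/-- The derived family. -/
def der (R : ZMod p → AddSubgroup L) : ℕ → ZMod p → AddSubgroup L
  | 0 => R
  | m + 1 => fun d => ⨆ i, bk (der R m i) (der R m (d - i))

/-- The lower central family. -/
def lcf (R : ZMod p → AddSubgroup L) : ℕ → ZMod p → AddSubgroup L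
  | 0 => R
  | m + 1 => fun d => ⨆ i, bk (lcf R m i) (R (d - i))

/-- Bracket expressions in homogeneous elements of degree above `k`. -/
inductive InGen (R : ZMod p → AddSubgroup L) (k : ℕ) : ZMod p → L → Prop
  | base {d : ZMod p} {x : L} : k < d.val → x ∈ R d → InGen R k d x
  | zero (d : ZMod p) : InGen R k d 0
  | add {d : ZMod p} {x y : L} : InGen R k d x → InGen R k d y → InGen R k d (x + y)
  | neg {d : ZMod p} {x : L} : InGen R k d x → InGen R k d (-x)
  | lie {i j : ZMod p} {x y : L} : InGen R k i x → InGen R k j y → InGen R k (i + j) ⁅x, y⁆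

/-- `InGen` as an additive subgroup. -/
def genFam (R : ZMod p → AddSubgroup L) (k : ℕ) (d : ZMod p) : AddSubgroup L where
  carrier := {x | InGen R k d x}
  add_mem' := InGen.add
  zero_mem' := InGen.zero d
  neg_mem' := InGen.neg

theorem inGen_mem {R : ZMod p → AddSubgroup L} (hR : IsClosedFam R) {k : ℕ} {d : ZMod p} {x : L}
    (h : InGen R k d x) : x ∈ R d := by
  induction h with
  | base _ h => exact h
  | zero d => exact (R d).zero_mem
  | add _ _ h1 h2 => exact (R _).add_mem h1 h2
  | neg _ h1 => exact (R _).neg_mem h1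
  | lie _ _ h1 h2 => exact hR _ _ _ h1 _ h2

theorem der_le {R : ZMod p → AddSubgroup L} (hR : IsClosedFam R) :
    ∀ m d, der R m d ≤ R d := by
  intro m
  induction m with
  | zero => exact fun d => le_rfl
  | succ m ih =>
    intro d
    refine iSup_le fun i => bk_le fun a ha b hb => ?_
    have := hR _ _ _ (ih i ha) _ (ih _ hb)
    rwa [add_sub_cancel] at this

theorem der_add (R : ZMod p → AddSubgroup L) (a : ℕ) : ∀ b, der (der R a) b = der R (a + b)
  | 0 => rfl
  | b + 1 => by
    funext d
    show (⨆ i, bk (der (der R a) b i) (der (der R a) b (d - i))) = _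
    rw [der_add R a b]
    rfl

theorem isClosedFam_der {R : ZMod p → AddSubgroup L} (hR : IsClosedFam R) :
    ∀ m, IsClosedFam (der R m)
  | 0 => hR
  | m + 1 => by
    intro i j a ha b hb
    have h1 : ∀ e, der R (m + 1) e ≤ der R m e := fun e => iSup_le fun l => bk_le fun u hu v hv => by
      have := isClosedFam_der hR m _ _ _ hu _ hv
      rwa [add_sub_cancel] at this
    refine le_iSup (fun l => bk (der R m l) (der R m (i + j - l))) i (lie_mem_bk (h1 i ha) ?_)
    rw [add_sub_cancel_left]
    exact h1 j hb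

theorem isIdealFam_der {R : ZMod p → AddSubgroup L} (hR : IsClosedFam R) :
    ∀ m, IsIdealFam R (der R m)
  | 0 => ⟨fun _ => le_rfl, hR⟩
  | m + 1 => by
    refine ⟨der_le hR (m + 1), fun i j a ha b hb => ?_⟩
    refine lie_mem_of_mem_iSup_left (fun l c hc => ?_) ha
    refine lie_mem_of_left ?_ hc
    rintro _ ⟨u, hu, v, hv, rfl⟩
    rw [lie_lie, sub_eq_add_neg, lie_skew]
    have hI := (isIdealFam_der hR m).2
    refine add_mem ?_ ?_
    · refine le_iSup (fun t => bk (der R m t) (der R m (i + j - t))) l (lie_mem_bk hu ?_)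
      rw [show i + j - l = i - l + j by abel]
      exact hI _ _ _ hv _ hb
    · refine le_iSup (fun t => bk (der R m t) (der R m (i + j - t))) (l + j) (lie_mem_bk (hI _ _ _ hu _ hb) ?_)
      rwa [show i + j - (l + j) = i - l by abel]

variable [hp : Fact p.Prime]

theorem der_le_genFam : ∀ (k : ℕ), k < p → ∀ (R : ZMod p → AddSubgroup L), IsClosedFam R →
    R 0 = ⊥ → ∀ d, der R (2 ^ k - 1) d ≤ genFam R k d := by
  intro k
  induction k with
  | zero =>
    intro _ R _ hR0 d x hx
    by_cases hd : d = 0
    · subst hd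
      have hx' : x ∈ R 0 := hx
      rw [hR0, AddSubgroup.mem_bot] at hx'
      rw [hx']; exact (genFam R 0 0).zero_mem
    · refine InGen.base (Nat.pos_of_ne_zero fun h => hd ?_) hx
      rwa [ZMod.val_eq_zero] at h
  | succ k ih =>
    intro hkp R hR hR0 d x hx
    set m := 2 ^ k - 1 with hm
    set S := der R (m + 1) with hS
    have hexp : 2 ^ (k + 1) - 1 = (m + 1) + m := by
      rw [hm, pow_succ]; have := Nat.one_le_two_pow (n := k); omega
    have hS0 : S 0 = ⊥ := le_bot_iff.1 (hR0 ▸ der_le hR (m + 1) 0)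
    rw [hexp, ← der_add] at hx
    have hx' := ih (by omega) S (isClosedFam_der hR _) hS0 d hx
    -- brackets of two elements of the previous stage
    have key : ∀ j v, InGen R k j v → ∀ i, ∀ u ∈ R i, (i + j).val = k + 1 →
        ⁅u, v⁆ ∈ genFam R (k + 1) (i + j) := by
      intro j v hv
      induction hv with
      | @base j v hj hv =>
        intro i u hu hij
        rcases eq_or_lt_of_le (Nat.succ_le_of_lt hj) with he | hlt
        · have hi : i = 0 := by
            have : i + j = j := ZMod.val_injective p (hij.trans he)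
            simpa using this
          subst hi
          rw [hR0, AddSubgroup.mem_bot] at hu
          rw [hu, zero_lie]; exact (genFam R (k + 1) _).zero_mem
        · refine InGen.lie (InGen.base ?_ hu) (InGen.base hlt hv)
          have h1 := ZMod.val_add i j
          rw [hij] at h1
          by_cases hlt' : i.val + j.val < p
          · rw [Nat.mod_eq_of_lt hlt'] at h1; omega
          · rw [Nat.mod_eq_sub_mod (by omega)] at h1
            have := ZMod.val_lt i; have := ZMod.val_lt j
            rw [Nat.mod_eq_of_lt (by omega)] at h1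
            omega
      | zero j => intro i u _ _; rw [lie_zero]; exact (genFam R (k + 1) _).zero_mem
      | add _ _ h1 h2 =>
        intro i u hu hij
        rw [lie_add]; exact add_mem (h1 i u hu hij) (h2 i u hu hij)
      | neg _ h1 => intro i u hu hij; rw [lie_neg]; exact neg_mem (h1 i u hu hij)
      | @lie j1 j2 v1 v2 hv1 hv2 h1 h2 =>
        intro i u hu hij
        rw [leibniz_lie]
        refine add_mem ?_ ?_
        · rw [← add_assoc] at hij ⊢
          exact h2 (i + j1) _ (hR _ _ _ hu _ (inGen_mem hR hv1)) hij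
        · rw [← lie_skew]
          refine neg_mem ?_
          have he : i + (j1 + j2) = i + j2 + j1 := by abel
          rw [he] at hij ⊢
          exact h1 (i + j2) _ (hR _ _ _ hu _ (inGen_mem hR hv2)) hij
    have hbase : ∀ d, k + 1 ≤ d.val → S d ≤ genFam R (k + 1) d := by
      intro d hd
      rcases eq_or_lt_of_le hd with he | hlt
      · refine iSup_le fun i => bk_le fun a ha b hb => ?_
        have := key _ b (ih (by omega) R hR hR0 _ hb) i a (der_le hR m i ha) (by
          rw [add_sub_cancel, ← he])
        rwa [add_sub_cancel] at this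
      · exact fun y hy => InGen.base hlt (der_le hR _ d hy)
    clear hx
    induction hx' with
    | base hd hy => exact hbase _ hd hy
    | zero d => exact zero_mem _
    | add _ _ h1 h2 => exact add_mem h1 h2
    | neg _ h1 => exact neg_mem h1
    | lie _ _ h1 h2 => exact InGen.lie h1 h2

/-- Kreknin's bound on the derived length. -/
theorem der_eq_bot {R : ZMod p → AddSubgroup L} (hR : IsClosedFam R) (hR0 : R 0 = ⊥) (d : ZMod p) :
    der R (2 ^ (p - 1) - 1) d = ⊥ := by
  rw [eq_bot_iff]
  intro x hx
  have h := der_le_genFam (p - 1) (Nat.sub_lt hp.out.pos one_pos) R hR hR0 d hx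
  clear hx
  rw [AddSubgroup.mem_bot]
  induction h with
  | @base d x hd _ => exact absurd hd (by have := ZMod.val_lt d; omega)
  | zero d => rfl
  | add _ _ h1 h2 => rw [h1, h2, add_zero]
  | neg _ h1 => rw [h1, neg_zero]
  | lie _ _ h1 h2 => rw [h1, zero_lie]

theorem lie_lcf_lcf {R : ZMod p → AddSubgroup L} : ∀ (b a : ℕ) (i j : ZMod p),
    ∀ x ∈ lcf R a i, ∀ y ∈ lcf R b j, ⁅x, y⁆ ∈ lcf R (a + b + 1) (i + j) := by
  intro b
  induction b with
  | zero =>
    intro a i j x hx y hy
    refine le_iSup (fun l => bk (lcf R a l) (R (i + j - l))) i (lie_mem_bk hx ?_)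
    rw [add_sub_cancel_left]
    exact hy
  | succ b ih =>
    intro a i j x hx y hy
    have h : ∀ l, ∀ u ∈ lcf R b l, ∀ v ∈ R (j - l), ⁅x, ⁅u, v⁆⁆ ∈ lcf R (a + (b + 1) + 1) (i + j) := by
      intro l u hu v hv
      rw [leibniz_lie, ← lie_skew u ⁅x, v⁆]
      refine add_mem ?_ (neg_mem ?_)
      · refine le_iSup (fun t => bk (lcf R (a + (b + 1)) t) (R (i + j - t))) (i + l) (lie_mem_bk ?_ ?_)
        · exact ih a i l x hx u hu
        · rwa [show i + j - (i + l) = j - l by abel]
      · have h1 : ⁅x, v⁆ ∈ lcf R (a + 1) (i + (j - l)) := by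
          refine le_iSup (fun t => bk (lcf R a t) (R (i + (j - l) - t))) i (lie_mem_bk hx ?_)
          rwa [add_sub_cancel_left]
        have h2 := ih (a + 1) _ _ _ h1 _ hu
        rwa [show i + (j - l) + l = i + j by abel, show a + 1 + b + 1 = a + (b + 1) + 1 by omega] at h2
    refine (fun hy' => ?_) hy
    induction hy' using AddSubgroup.iSup_induction' with
    | hp l w hw =>
      refine lie_mem_of_right ?_ hw
      rintro _ ⟨u, hu, v, hv, rfl⟩
      exact h l u hu v hv
    | h1 => rw [lie_zero]; exact zero_mem _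
    | hadd c e _ _ h1 h2 => rw [lie_add]; exact add_mem (h1 ‹_›) (h2 ‹_›)

/-- A homogeneous element with a weight. -/
structure Wt (L : Type*) (p : ℕ) where
  deg : ZMod p
  wt : ℕ
  elt : L

/-- Left-normed bracket. -/
def fold (a : L) : List (Wt L p) → L
  | [] => a
  | y :: ys => fold ⁅a, y.elt⁆ ys

theorem fold_append (a : L) : ∀ l l' : List (Wt L p), fold a (l ++ l') = fold (fold a l) l'
  | [], _ => rfl
  | _ :: l, l' => fold_append _ l l'

theorem fold_add (a b : L) : ∀ l : List (Wt L p), fold (a + b) l = fold a l + fold b l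
  | [] => rfl
  | y :: l => by show fold ⁅a + b, y.elt⁆ l = _; rw [add_lie, fold_add]; rfl

/-- Every nonzero residue list of length `p - 1` has subset sums everywhere. -/
theorem exists_sublist_sum : ∀ (l : List (ZMod p)), (∀ x ∈ l, x ≠ 0) →
    p ≤ l.length + 1 → ∀ t : ZMod p, ∃ s : List (ZMod p), s.Subperm l ∧ s.sum = t := by
  classical
  have key : ∀ (l : List (ZMod p)), (∀ x ∈ l, x ≠ 0) →
      ∃ F : Finset (ZMod p), (∀ t ∈ F, ∃ s : List (ZMod p), s.Subperm l ∧ s.sum = t) ∧
        min p (l.length + 1) ≤ F.card := by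
    intro l
    induction l with
    | nil =>
      intro _
      refine ⟨{0}, fun t ht => ⟨[], List.nil_subperm, ?_⟩, by simp⟩
      simp [Finset.mem_singleton.1 ht]
    | cons x l ih =>
      intro hx
      obtain ⟨F, hF, hcard⟩ := ih fun y hy => hx y (List.mem_cons_of_mem _ hy)
      have hx0 : x ≠ 0 := hx x List.mem_cons_self
      refine ⟨F ∪ F.image (x + ·), ?_, ?_⟩
      · intro t ht
        rcases Finset.mem_union.1 ht with h | h
        · obtain ⟨s, hs, hst⟩ := hF t h
          exact ⟨s, hs.trans (List.sublist_cons_self x l).subperm, hst⟩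
        · obtain ⟨u, hu, rfl⟩ := Finset.mem_image.1 h
          obtain ⟨s, hs, hst⟩ := hF u hu
          exact ⟨x :: s, List.subperm_cons x |>.2 hs, by simp [hst]⟩
      · by_cases hfull : F = Finset.univ
        · calc min p ((x :: l).length + 1) ≤ p := min_le_left _ _
            _ = F.card := by rw [hfull, Finset.card_univ, ZMod.card]
            _ ≤ _ := Finset.card_le_card Finset.subset_union_left
        · have hlt : F.card < (F ∪ F.image (x + ·)).card := by
            refine Finset.card_lt_card (Finset.ssubset_iff_subset_ne.2 ⟨Finset.subset_union_left, fun he => ?_⟩)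
            apply hfull
            have hne : F.Nonempty := Finset.card_pos.1 (lt_of_lt_of_le
              (lt_min hp.out.pos (Nat.succ_pos _)) hcard)
            obtain ⟨u, hu⟩ := hne
            have hcl : ∀ v ∈ F, x + v ∈ F := fun v hv => by
              rw [he]; exact Finset.mem_union_right _ (Finset.mem_image_of_mem _ hv)
            have hall : ∀ n : ℕ, (n : ZMod p) * x + u ∈ F := by
              intro n
              induction n with
              | zero => simpa using hu
              | succ n ih2 => rw [Nat.cast_succ, add_mul, one_mul, add_comm _ x, add_assoc]; exact hcl _ ih2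
            refine Finset.eq_univ_iff_forall.2 fun v => ?_
            have := hall (((v - u) * x⁻¹).val)
            rwa [ZMod.natCast_zmod_val, mul_assoc, inv_mul_cancel₀ hx0, mul_one, sub_add_cancel] at this
          simp only [List.length_cons]
          omega
  intro l hl hlen t
  obtain ⟨F, hF, hcard⟩ := key l hl
  refine hF t ?_
  rw [Finset.eq_univ_of_card F (le_antisymm (Finset.card_le_univ F) (by
    rw [ZMod.card]; exact (le_min le_rfl hlen).trans hcard))]
  exact Finset.mem_univ t

/-- Higman's step: from an ideal `A` with `⁅A, A⁆ ≤ B` containing `lcf R c`. -/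
theorem lcf_le_of_ideal {R A B : ZMod p → AddSubgroup L} (hR0 : R 0 = ⊥)
    (hA : IsIdealFam R A) (hB : IsIdealFam R B) (hAB : ∀ i j, ∀ a ∈ A i, ∀ b ∈ A j, ⁅a, b⁆ ∈ B (i + j))
    {c : ℕ} (hc : ∀ d, lcf R c d ≤ A d) (hR : IsClosedFam R) :
    ∀ d, lcf R ((p - 1) * c + 1) d ≤ B d := by
  classical
  have hlcf : ∀ n d, lcf R n d ≤ R d := by
    intro n
    induction n with
    | zero => exact fun d => le_rfl
    | succ n ih =>
      intro d
      refine iSup_le fun i => bk_le fun a ha b hb => ?_
      have := hR _ _ _ (ih i ha) _ hb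
      rwa [add_sub_cancel] at this
  have hanti : ∀ n n', n ≤ n' → ∀ d, lcf R n' d ≤ lcf R n d := by
    have hstep : ∀ n d, lcf R (n + 1) d ≤ lcf R n d := by
      intro n
      induction n with
      | zero => exact hlcf 1
      | succ n ih =>
        intro d
        exact iSup_mono fun i => bk_mono (ih i) le_rfl
    intro n n' h
    induction h with
    | refl => exact fun d => le_rfl
    | step _ ih => exact fun d => (hstep _ d).trans (ih d)
  set m := (p - 2) * c + 1 with hm
  have hsumdeg : ∀ l : List (Wt L p), (∀ y ∈ l, y.elt ∈ lcf R (y.wt - 1) y.deg) → ∀ d, ∀ a ∈ A d,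
      fold a l ∈ A (d + (l.map Wt.deg).sum) := by
    intro l
    induction l with
    | nil => intro _ d a ha; simpa [fold] using ha
    | cons y l ih =>
      intro hl d a ha
      rw [List.map_cons, List.sum_cons, ← add_assoc]
      exact ih (fun z hz => hl z (List.mem_cons_of_mem _ hz)) _ _
        (hA.2 _ _ _ ha _ (hlcf _ _ (hl y List.mem_cons_self)))
  have hBfold : ∀ l : List (Wt L p), (∀ y ∈ l, y.elt ∈ lcf R (y.wt - 1) y.deg) → ∀ d, ∀ a ∈ B d,
      fold a l ∈ B (d + (l.map Wt.deg).sum) := by
    intro l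
    induction l with
    | nil => intro _ d a ha; simpa [fold] using ha
    | cons y l ih =>
      intro hl d a ha
      rw [List.map_cons, List.sum_cons, ← add_assoc]
      exact ih (fun z hz => hl z (List.mem_cons_of_mem _ hz)) _ _
        (hB.2 _ _ _ ha _ (hlcf _ _ (hl y List.mem_cons_self)))
  have hA0 : ∀ a ∈ A 0, a = 0 := fun a ha => by
    have := hA.1 0 ha
    rwa [hR0, AddSubgroup.mem_bot] at this
  have main : ∀ (r : ℕ) (l : List (Wt L p)), l.length = r →
      (∀ y ∈ l, 1 ≤ y.wt ∧ y.elt ∈ lcf R (y.wt - 1) y.deg) → m ≤ (l.map Wt.wt).sum →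
      ∀ d, ∀ a ∈ A d, fold a l ∈ B (d + (l.map Wt.deg).sum) := by
    intro r
    induction r using Nat.strong_induction_on with
    | _ r ih =>
    intro l hlen hl hw d a ha
    have hl' : ∀ y ∈ l, y.elt ∈ lcf R (y.wt - 1) y.deg := fun y hy => (hl y hy).2
    by_cases hbig : ∃ y ∈ l, c < y.wt
    · obtain ⟨y, hy, hyc⟩ := hbig
      obtain ⟨l1, l2, rfl⟩ := List.append_of_mem hy
      have hyA : y.elt ∈ A y.deg := hc _ (hanti c (y.wt - 1) (by omega) _ (hl' y hy))
      have h1 := hsumdeg l1 (fun z hz => hl' z (List.mem_append_left _ hz)) d a ha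
      have h2 := hBfold l2 (fun z hz => hl' z (List.mem_append_right _ (List.mem_cons_of_mem _ hz))) _ _
        (hAB _ _ _ h1 _ hyA)
      rw [fold_append, List.map_append, List.sum_append, List.map_cons, List.sum_cons]
      rw [← add_assoc, ← add_assoc]
      exact h2
    push Not at hbig
    by_cases hzero : ∃ y ∈ l, y.deg = 0
    · obtain ⟨y, hy, hyd⟩ := hzero
      obtain ⟨l1, l2, rfl⟩ := List.append_of_mem hy
      have hy0 : y.elt = 0 := by
        have := hlcf _ _ (hl' y hy)
        rwa [hyd, hR0, AddSubgroup.mem_bot] at this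
      have hzero : ∀ q : List (Wt L p), fold (0 : L) q = 0 := by
        intro q
        induction q with
        | nil => rfl
        | cons z q ihq => show fold ⁅(0 : L), z.elt⁆ q = 0; rw [zero_lie, ihq]
      rw [fold_append]
      show fold ⁅fold a l1, y.elt⁆ l2 ∈ _
      rw [hy0, lie_zero, hzero]
      exact zero_mem _
    push Not at hzero
    have hsum : (l.map Wt.wt).sum ≤ r * c := by
      rw [← hlen]
      have := List.sum_le_card_nsmul (l.map Wt.wt) c (by
        intro x hx; obtain ⟨y, hy, rfl⟩ := List.mem_map.1 hx; exact hbig y hy)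
      simpa using this
    have hrp : p - 1 ≤ r := by
      by_contra hlt
      have : r * c ≤ (p - 2) * c := Nat.mul_le_mul_right c (by omega)
      omega
    -- permutations agree modulo `B`
    have hperm : ∀ {l₁ l₂ : List (Wt L p)}, l₁.Perm l₂ → ∀ (pre : List (Wt L p)),
        (∀ y ∈ pre ++ l₁, 1 ≤ y.wt ∧ y.elt ∈ lcf R (y.wt - 1) y.deg) →
        (pre ++ l₁).length = r → m ≤ ((pre ++ l₁).map Wt.wt).sum →
        fold a (pre ++ l₁) - fold a (pre ++ l₂) ∈ B (d + ((pre ++ l₁).map Wt.deg).sum) := by
      intro l₁ l₂ hp'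
      induction hp' with
      | nil => intro pre _ _ _; rw [sub_self]; exact zero_mem _
      | cons x _ ihp =>
        intro pre hv hlen hw
        have := ihp (pre ++ [x]) (by simpa using hv) (by simpa using hlen) (by simpa using hw)
        simpa using this
      | swap x y q =>
        intro pre hv hlen hw
        let z : Wt L p := ⟨y.deg + x.deg, y.wt + x.wt, ⁅y.elt, x.elt⁆⟩
        have hx := hv x (by simp)
        have hy := hv y (by simp)
        have hz : 1 ≤ z.wt ∧ z.elt ∈ lcf R (z.wt - 1) z.deg := by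
          refine ⟨le_trans hy.1 (Nat.le_add_right _ _), ?_⟩
          have h := lie_lcf_lcf _ _ _ _ _ hy.2 _ hx.2
          rw [show y.wt - 1 + (x.wt - 1) + 1 = z.wt - 1 by have := hy.1; have := hx.1; show _ = y.wt + x.wt - 1; omega] at h
          exact h
        have hih := ih (r - 1) (by simp at hlen; omega) (pre ++ z :: q) (by simp at hlen ⊢; omega)
          (by
            intro w hw'
            rcases List.mem_append.1 hw' with h | h
            · exact hv w (List.mem_append_left _ h)
            · rcases List.mem_cons.1 h with rfl | h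
              · exact hz
              · exact hv w (by simp [h]))
          (le_trans hw (by simp [z, Nat.add_assoc])) d a ha
        have he : fold a (pre ++ y :: x :: q) - fold a (pre ++ x :: y :: q) = fold a (pre ++ z :: q) := by
          rw [sub_eq_iff_eq_add, fold_append, fold_append, fold_append]
          show fold ⁅⁅fold a pre, y.elt⁆, x.elt⁆ q =
            fold ⁅fold a pre, ⁅y.elt, x.elt⁆⁆ q + fold ⁅⁅fold a pre, x.elt⁆, y.elt⁆ q
          rw [← fold_add]
          congr 1
          rw [leibniz_lie (fold a pre) y.elt x.elt, ← lie_skew ⁅fold a pre, x.elt⁆ y.elt]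
          abel
        rw [he]
        simpa [z, add_assoc] using hih
      | trans h1 h2 ih1 ih2 =>
        intro pre hv hlen hw
        have hperm' := (List.Perm.refl pre).append h1
        have e1 := ih1 pre hv hlen hw
        have e2 := ih2 pre (fun y hy => hv y (hperm'.mem_iff.2 hy)) (hperm'.length_eq ▸ hlen)
          ((hperm'.map Wt.wt).sum_eq ▸ hw)
        rw [← (hperm'.map Wt.deg).sum_eq] at e2
        have := add_mem e1 e2
        rwa [sub_add_sub_cancel] at this
    obtain ⟨s, hs, hst⟩ := exists_sublist_sum (l.map Wt.deg)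
      (fun x hx => by obtain ⟨y, hy, rfl⟩ := List.mem_map.1 hx; exact hzero y hy)
      (by rw [List.length_map]; omega) (-d)
    obtain ⟨s', hs', hsub⟩ := hs
    obtain ⟨u, hu, rfl⟩ := List.sublist_map_iff.1 hsub
    obtain ⟨w, hw'⟩ := hu.exists_perm_append
    have hperm1 : l.Perm (u ++ w) := hw'
    have hzero' : fold a (u ++ w) = 0 := by
      rw [fold_append]
      have hdu : d + (u.map Wt.deg).sum = 0 := by
        rw [hs'.sum_eq, hst, add_neg_cancel]
      have h1 := hsumdeg u (fun z hz => hl' z (hperm1.mem_iff.2 (List.mem_append_left _ hz))) d a ha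
      rw [hdu] at h1
      rw [hA0 _ h1]
      have : ∀ q : List (Wt L p), fold (0 : L) q = 0 := by
        intro q
        induction q with
        | nil => rfl
        | cons z q ihq => show fold ⁅(0 : L), z.elt⁆ q = 0; rw [zero_lie, ihq]
      exact this w
    have h := hperm hperm1 [] (by simpa using hl) (by simpa using hlen) (by simpa using hw)
    simpa [hzero'] using h
  intro d
  -- expand `lcf R (c + t)`
  have hexp : ∀ t (l : List (Wt L p)), (∀ y ∈ l, 1 ≤ y.wt ∧ y.elt ∈ lcf R (y.wt - 1) y.deg) →
      m ≤ t + (l.map Wt.wt).sum → ∀ e, ∀ x ∈ lcf R (c + t) e, fold x l ∈ B (e + (l.map Wt.deg).sum) := by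
    intro t
    induction t with
    | zero =>
      intro l hl hw e x hx
      exact main _ l rfl hl (by simpa using hw) e x (hc e hx)
    | succ t ih =>
      intro l hl hw e x hx
      have hfold0 : ∀ q : List (Wt L p), fold (0 : L) q = 0 := by
        intro q
        induction q with
        | nil => rfl
        | cons z q ihq => show fold ⁅(0 : L), z.elt⁆ q = 0; rw [zero_lie, ihq]
      let T : AddSubgroup L := B (e + (l.map Wt.deg).sum)
      let f : L →+ L :=
        { toFun := fun y => fold y l, map_zero' := hfold0 l, map_add' := fun y z => fold_add y z l }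
      let C : AddSubgroup L := T.comap f
      show x ∈ C
      refine (show lcf R (c + (t + 1)) e ≤ C from iSup_le fun i => bk_le fun u hu v hv => ?_) hx
      show fold ⁅u, v⁆ l ∈ T
      have h := ih (⟨e - i, 1, v⟩ :: l) (by
          intro y hy
          rcases List.mem_cons.1 hy with rfl | hy
          · exact ⟨le_rfl, hv⟩
          · exact hl y hy)
        (by simp only [List.map_cons, List.sum_cons]; omega) i u hu
      simp only [List.map_cons, List.sum_cons] at h
      rw [← add_assoc, add_sub_cancel] at h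
      exact h
  intro x hx
  have h := hexp m [] (by simp) (by simp) d x (by
    have : c + m = (p - 1) * c + 1 := by
      rw [hm, show p - 1 = (p - 2) + 1 by have := hp.out.two_le; omega, add_mul, one_mul]; omega
    rw [this]; exact hx)
  simpa [fold] using h

/-- Higman's bound on the class in terms of the derived length. -/
theorem lcf_le_of_der_le {R : ZMod p → AddSubgroup L} (hR : IsClosedFam R) (hR0 : R 0 = ⊥) :
    ∀ (s : ℕ) (B : ZMod p → AddSubgroup L), IsIdealFam R B → (∀ d, der R s d ≤ B d) →
      ∀ d, lcf R (∑ i ∈ Finset.range s, (p - 1) ^ i) d ≤ B d := by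
  intro s
  induction s with
  | zero => intro B _ hB d; simpa [der, lcf] using hB d
  | succ s ih =>
    intro B hB hle d
    set A : ZMod p → AddSubgroup L := fun e => der R s e ⊔ B e with hAdef
    have hD := isIdealFam_der hR s
    have hA : IsIdealFam R A := by
      refine ⟨fun e => sup_le (hD.1 e) (hB.1 e), fun i j a ha b hb => ?_⟩
      obtain ⟨u, hu, v, hv, rfl⟩ := AddSubgroup.mem_sup.1 ha
      rw [add_lie]
      exact AddSubgroup.mem_sup.2 ⟨_, hD.2 _ _ _ hu _ hb, _, hB.2 _ _ _ hv _ hb, rfl⟩
    have hAB : ∀ i j, ∀ a ∈ A i, ∀ b ∈ A j, ⁅a, b⁆ ∈ B (i + j) := by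
      intro i j a ha b hb
      obtain ⟨u, hu, v, hv, rfl⟩ := AddSubgroup.mem_sup.1 ha
      rw [add_lie]
      refine add_mem ?_ (hB.2 _ _ _ hv _ (hA.1 j hb))
      obtain ⟨u', hu', v', hv', rfl⟩ := AddSubgroup.mem_sup.1 hb
      rw [lie_add]
      refine add_mem ?_ ?_
      · refine hle _ (le_iSup (fun t => bk (der R s t) (der R s (i + j - t))) i (lie_mem_bk hu ?_))
        rwa [add_sub_cancel_left]
      · rw [← lie_skew, add_comm i j]
        exact neg_mem (hB.2 _ _ _ hv' _ (hD.1 i hu))
    have h := lcf_le_of_ideal hR0 hA hB hAB (ih A hA fun e => le_sup_left) hR d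
    rwa [geom_sum_succ]

end Cfsg.Agent.Lib.LieFpf
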