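import Cfsg.Agent.Lib.HallPetresco.Basic
import Cfsg.Agent.Lib.LieFpf.Kreknin

/-!
The Lie ring of a group attached to the lower central series, truncated at a given weight.
-/

set_option autoImplicit false

namespace Cfsg.Agent.Lib.LieFpf

open scoped commutatorElement

variable {G : Type*} [Group G]

/-- The lower central series, indexed from zero. -/
abbrev gam (G : Type*) [Group G] (n : ℕ) : Subgroup G := (⊤ : Subgroup G).lowerCentralSeries n

theorem comm_mem_gam {i j n : ℕ} (h : n ≤ i + j + 1) {x y : G} (hx : x ∈ gam G i) (hy : y ∈ gam G j) :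
    ⁅x, y⁆ ∈ gam G n :=
  Subgroup.lowerCentralSeries_antitone _ h
    (HallPetresco.commutator_lowerCentralSeries_le (G := G) j i (Subgroup.commutator_mem_commutator hx hy))

/-- A layer of the lower central series. -/
abbrev LayerQ (G : Type*) [Group G] (n : ℕ) : Type _ :=
  gam G n ⧸ (gam G (n + 1)).subgroupOf (gam G n)

theorem layerQ_mul_comm (n : ℕ) (a b : LayerQ G n) : a * b = b * a := by
  obtain ⟨a, rfl⟩ := QuotientGroup.mk'_surjective _ a
  obtain ⟨b, rfl⟩ := QuotientGroup.mk'_surjective _ b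
  refine commutatorElement_eq_one_iff_mul_comm.1 ?_
  rw [← map_commutatorElement]
  refine (QuotientGroup.eq_one_iff _).2 ?_
  show ⁅(a : G), (b : G)⁆ ∈ gam G (n + 1)
  exact comm_mem_gam (i := n) (j := n) (by omega) a.2 b.2

instance layerQCommGroup (n : ℕ) : CommGroup (LayerQ G n) :=
  { (inferInstance : Group (LayerQ G n)) with mul_comm := layerQ_mul_comm n }

/-- The additive layer. -/
abbrev Layer (G : Type*) [Group G] (n : ℕ) : Type _ := Additive (LayerQ G n)

/-- The class of an element in its layer. -/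
def lay (n : ℕ) (x : G) (hx : x ∈ gam G n) : Layer G n :=
  Additive.ofMul (QuotientGroup.mk' ((gam G (n + 1)).subgroupOf (gam G n)) ⟨x, hx⟩)

theorem lay_surjective (n : ℕ) (a : Layer G n) : ∃ x, ∃ hx : x ∈ gam G n, a = lay n x hx := by
  obtain ⟨⟨x, hx⟩, h⟩ := QuotientGroup.mk'_surjective _ (Additive.toMul a)
  exact ⟨x, hx, congrArg Additive.ofMul h.symm⟩

theorem lay_mul {n : ℕ} {x y : G} (hx : x ∈ gam G n) (hy : y ∈ gam G n) :
    lay n (x * y) ((gam G n).mul_mem hx hy) = lay n x hx + lay n y hy :=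
  congrArg Additive.ofMul (map_mul _ (⟨x, hx⟩ : gam G n) ⟨y, hy⟩)

theorem lay_one (n : ℕ) : lay n (1 : G) (gam G n).one_mem = 0 :=
  congrArg Additive.ofMul (map_one _)

theorem lay_eq_zero {n : ℕ} {x : G} (hx : x ∈ gam G n) : lay n x hx = 0 ↔ x ∈ gam G (n + 1) :=
  ⟨fun h => (QuotientGroup.eq_one_iff (⟨x, hx⟩ : gam G n)).1 (congrArg Additive.toMul h),
    fun h => congrArg Additive.ofMul ((QuotientGroup.eq_one_iff (⟨x, hx⟩ : gam G n)).2 h)⟩

theorem lay_congr {n : ℕ} {x y : G} (hx : x ∈ gam G n) (hy : y ∈ gam G n)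
    (h : x⁻¹ * y ∈ gam G (n + 1)) : lay n x hx = lay n y hy :=
  congrArg Additive.ofMul (QuotientGroup.eq.2 h)

theorem lay_mem_eq {n : ℕ} {x y : G} (e : x = y) (hx : x ∈ gam G n) (hy : y ∈ gam G n) :
    lay n x hx = lay n y hy := by subst e; rfl

theorem lay_inv {n : ℕ} {x : G} (hx : x ∈ gam G n) :
    lay n x⁻¹ ((gam G n).inv_mem hx) = - lay n x hx :=
  congrArg Additive.ofMul (map_inv _ (⟨x, hx⟩ : gam G n))

theorem lay_conj {n : ℕ} {x : G} (g : G) (hx : x ∈ gam G n) (hx' : g * x * g⁻¹ ∈ gam G n) :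
    lay n (g * x * g⁻¹) hx' = lay n x hx := by
  refine lay_congr hx' hx ?_
  have h := (gam G (n + 1)).inv_mem (comm_mem_gam (n := n + 1) (i := 0) (j := n) (by omega) (Subgroup.mem_top g) hx)
  have h2 : (g * x * g⁻¹)⁻¹ * x = x⁻¹ * ⁅g, x⁆⁻¹ * x := by rw [commutatorElement_def]; group
  rw [h2]
  simpa using Subgroup.Normal.conj_mem inferInstance _ h x⁻¹

/-- The bracket of two layers in a third one. -/
noncomputable def br (i j n : ℕ) (a : Layer G i) (b : Layer G j) : Layer G n :=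
  if h : i + j + 1 = n then
    lay n ⁅((Additive.toMul a).out : G), ((Additive.toMul b).out : G)⁆
      (comm_mem_gam h.ge (Additive.toMul a).out.2 (Additive.toMul b).out.2)
  else 0

theorem lay_comm_mul_left {i j n : ℕ} (h : i + j + 1 = n) {x x' y : G} (hx : x ∈ gam G i)
    (hx' : x' ∈ gam G i) (hy : y ∈ gam G j) :
    lay n ⁅x * x', y⁆ (comm_mem_gam h.ge (mul_mem hx hx') hy) =
      lay n ⁅x, y⁆ (comm_mem_gam h.ge hx hy) + lay n ⁅x', y⁆ (comm_mem_gam h.ge hx' hy) := by
  have h1 : x * ⁅x', y⁆ * x⁻¹ ∈ gam G n :=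
    Subgroup.Normal.conj_mem inferInstance _ (comm_mem_gam h.ge hx' hy) x
  rw [lay_mem_eq (commutatorElement_mul_left_eq_conj_mul x x' y) _
    (mul_mem h1 (comm_mem_gam h.ge hx hy)), lay_mul h1 (comm_mem_gam h.ge hx hy), lay_conj x _ h1,
    add_comm]

theorem lay_comm_mul_right {i j n : ℕ} (h : i + j + 1 = n) {x y y' : G} (hx : x ∈ gam G i)
    (hy : y ∈ gam G j) (hy' : y' ∈ gam G j) :
    lay n ⁅x, y * y'⁆ (comm_mem_gam h.ge hx (mul_mem hy hy')) =
      lay n ⁅x, y⁆ (comm_mem_gam h.ge hx hy) + lay n ⁅x, y'⁆ (comm_mem_gam h.ge hx hy') := by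
  have h1 : y * ⁅x, y'⁆ * y⁻¹ ∈ gam G n :=
    Subgroup.Normal.conj_mem inferInstance _ (comm_mem_gam h.ge hx hy') y
  rw [lay_mem_eq (show ⁅x, y * y'⁆ = ⁅x, y⁆ * (y * ⁅x, y'⁆ * y⁻¹) by
      rw [commutatorElement_mul_right_eq_mul_conj]; group) _
    (mul_mem (comm_mem_gam h.ge hx hy) h1), lay_mul (comm_mem_gam h.ge hx hy) h1, lay_conj y _ h1]

theorem lay_comm_congr {i j n : ℕ} (h : i + j + 1 = n) {x x' y y' : G} (hx : x ∈ gam G i)
    (hx' : x' ∈ gam G i) (hy : y ∈ gam G j) (hy' : y' ∈ gam G j)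
    (ex : x⁻¹ * x' ∈ gam G (i + 1)) (ey : y⁻¹ * y' ∈ gam G (j + 1)) :
    lay n ⁅x, y⁆ (comm_mem_gam h.ge hx hy) = lay n ⁅x', y'⁆ (comm_mem_gam h.ge hx' hy') := by
  have hu : x⁻¹ * x' ∈ gam G i := mul_mem (inv_mem hx) hx'
  have hv : y⁻¹ * y' ∈ gam G j := mul_mem (inv_mem hy) hy'
  rw [lay_mem_eq (show ⁅x', y'⁆ = ⁅x * (x⁻¹ * x'), y'⁆ by rw [mul_inv_cancel_left]) _
    (comm_mem_gam h.ge (mul_mem hx hu) hy'), lay_comm_mul_left h hx hu hy']
  rw [lay_mem_eq (show ⁅x, y'⁆ = ⁅x, y * (y⁻¹ * y')⁆ by rw [mul_inv_cancel_left]) _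
    (comm_mem_gam h.ge hx (mul_mem hy hv)), lay_comm_mul_right h hx hy hv]
  rw [(lay_eq_zero (comm_mem_gam h.ge hu hy')).2 (comm_mem_gam (by omega) ex hy'),
    (lay_eq_zero (comm_mem_gam h.ge hx hv)).2 (comm_mem_gam (by omega) hx ey), add_zero, add_zero]

theorem br_lay {i j n : ℕ} (h : i + j + 1 = n) {x y : G} (hx : x ∈ gam G i) (hy : y ∈ gam G j) :
    br i j n (lay i x hx) (lay j y hy) = lay n ⁅x, y⁆ (comm_mem_gam h.ge hx hy) := by
  rw [br, dif_pos h]
  refine (lay_comm_congr h hx (Additive.toMul (lay i x hx)).out.2 hy (Additive.toMul (lay j y hy)).out.2 ?_ ?_).symm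
  · exact Subgroup.mem_subgroupOf.1 (QuotientGroup.eq.1 (show ((⟨x, hx⟩ : gam G i) : LayerQ G i) =
      ((Additive.toMul (lay i x hx)).out : LayerQ G i) from (QuotientGroup.out_eq' _).symm))
  · exact Subgroup.mem_subgroupOf.1 (QuotientGroup.eq.1 (show ((⟨y, hy⟩ : gam G j) : LayerQ G j) =
      ((Additive.toMul (lay j y hy)).out : LayerQ G j) from (QuotientGroup.out_eq' _).symm))

theorem br_of_ne {i j n : ℕ} (h : ¬ i + j + 1 = n) (a : Layer G i) (b : Layer G j) : br i j n a b = 0 :=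
  dif_neg h

theorem br_add_left (i j n : ℕ) (a a' : Layer G i) (b : Layer G j) :
    br i j n (a + a') b = br i j n a b + br i j n a' b := by
  by_cases h : i + j + 1 = n
  · obtain ⟨x, hx, rfl⟩ := lay_surjective i a
    obtain ⟨x', hx', rfl⟩ := lay_surjective i a'
    obtain ⟨y, hy, rfl⟩ := lay_surjective j b
    rw [← lay_mul hx hx', br_lay h, br_lay h, br_lay h, lay_comm_mul_left h hx hx' hy]
  · simp [br_of_ne h]

theorem br_add_right (i j n : ℕ) (a : Layer G i) (b b' : Layer G j) :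
    br i j n a (b + b') = br i j n a b + br i j n a b' := by
  by_cases h : i + j + 1 = n
  · obtain ⟨x, hx, rfl⟩ := lay_surjective i a
    obtain ⟨y, hy, rfl⟩ := lay_surjective j b
    obtain ⟨y', hy', rfl⟩ := lay_surjective j b'
    rw [← lay_mul hy hy', br_lay h, br_lay h, br_lay h, lay_comm_mul_right h hx hy hy']
  · simp [br_of_ne h]

theorem br_zero_left (i j n : ℕ) (b : Layer G j) : br i j n (0 : Layer G i) b = 0 := by
  have := br_add_left i j n 0 0 b
  rwa [add_zero, left_eq_add] at this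

theorem br_zero_right (i j n : ℕ) (a : Layer G i) : br i j n a (0 : Layer G j) = 0 := by
  have := br_add_right i j n a 0 0
  rwa [add_zero, left_eq_add] at this

theorem br_swap (i j n : ℕ) (a : Layer G i) (b : Layer G j) : br j i n b a = - br i j n a b := by
  by_cases h : i + j + 1 = n
  · obtain ⟨x, hx, rfl⟩ := lay_surjective i a
    obtain ⟨y, hy, rfl⟩ := lay_surjective j b
    rw [br_lay h, br_lay (show j + i + 1 = n by omega), ← lay_inv]
    exact lay_mem_eq (commutatorElement_inv x y).symm _ _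
  · rw [br_of_ne h, br_of_ne (by omega), neg_zero]

theorem br_self (i n : ℕ) (a : Layer G i) : br i i n a a = 0 := by
  by_cases h : i + i + 1 = n
  · obtain ⟨x, hx, rfl⟩ := lay_surjective i a
    rw [br_lay h, ← lay_one]
    exact lay_mem_eq (commutatorElement_self x) _ _
  · exact br_of_ne h _ _

variable {c : ℕ}

/-- The truncated Lie ring of a group. -/
def GLie (G : Type*) [Group G] (c : ℕ) : Type _ := (n : Fin c) → Layer G n

noncomputable instance : AddCommGroup (GLie G c) :=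
  inferInstanceAs (AddCommGroup ((n : Fin c) → Layer G n))

@[ext] theorem GLie.ext {x y : GLie G c} (h : ∀ n, x n = y n) : x = y := funext h

/-- The bracket of the truncated Lie ring. -/
noncomputable def gbr (x y : GLie G c) : GLie G c :=
  fun n => ∑ i : Fin c, ∑ j : Fin c, br (i : ℕ) (j : ℕ) (n : ℕ) (x i) (y j)

/-- The triple bracket. -/
noncomputable def tr (i j k n : ℕ) (a : Layer G i) (b : Layer G j) (e : Layer G k) : Layer G n :=
  br i (j + k + 1) n a (br j k (j + k + 1) b e)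

theorem sum_br_br_right (n : Fin c) (i j k : ℕ) (a : Layer G i) (b : Layer G j) (e : Layer G k) :
    ∑ m : Fin c, br i (m : ℕ) (n : ℕ) a (br j k (m : ℕ) b e) = tr i j k n a b e := by
  by_cases h : j + k + 1 < c
  · rw [Finset.sum_eq_single (⟨j + k + 1, h⟩ : Fin c)]
    · rfl
    · intro m _ hm
      rw [br_of_ne (n := (m : ℕ)) (fun he => hm (Fin.ext he.symm)), br_zero_right]
    · exact fun h' => absurd (Finset.mem_univ _) h'
  · rw [tr, br_of_ne (n := (n : ℕ)) (i := i) (j := j + k + 1) (by have := n.2; omega)]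
    exact Finset.sum_eq_zero fun m _ => by
      rw [br_of_ne (n := (m : ℕ)) (by have := m.2; omega), br_zero_right]

theorem jacobi_tr (i j k n : ℕ) (a : Layer G i) (b : Layer G j) (e : Layer G k) :
    tr i j k n a b e + tr j k i n b e a + tr k i j n e a b = 0 := by
  unfold tr
  by_cases h : i + j + k + 2 = n
  · obtain ⟨x, hx, rfl⟩ := lay_surjective i a
    obtain ⟨y, hy, rfl⟩ := lay_surjective j b
    obtain ⟨z, hz, rfl⟩ := lay_surjective k e
    simp only [br_lay rfl, br_lay (show i + (j + k + 1) + 1 = n by omega),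
      br_lay (show j + (k + i + 1) + 1 = n by omega), br_lay (show k + (i + j + 1) + 1 = n by omega)]
    -- replace by the terms of the Hall-Witt identity
    have hN : ∀ {m : ℕ} {u : G} (g : G), u ∈ gam G m → u⁻¹ * (g * u * g⁻¹) ∈ gam G (m + 1) := by
      intro m u g hu
      have h1 := comm_mem_gam (n := m + 1) (i := 0) (j := m) (by omega) (Subgroup.mem_top g) hu
      have : u⁻¹ * (g * u * g⁻¹) = u⁻¹ * ⁅g, u⁆ * u⁻¹⁻¹ := by rw [commutatorElement_def]; group
      rw [this]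
      exact Subgroup.Normal.conj_mem inferInstance _ h1 _
    have mem1 : ∀ {m : ℕ} {u : G} (g : G), u ∈ gam G m → g * u * g⁻¹ ∈ gam G m :=
      fun g hu => Subgroup.Normal.conj_mem inferInstance _ hu g
    rw [lay_comm_congr (show i + (j + k + 1) + 1 = n by omega) hx (mem1 z hx) (comm_mem_gam le_rfl hy hz)
        (comm_mem_gam le_rfl hy hz) (hN z hx) (by rw [inv_mul_cancel]; exact one_mem _),
      lay_comm_congr (show j + (k + i + 1) + 1 = n by omega) hy (mem1 x hy) (comm_mem_gam le_rfl hz hx)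
        (comm_mem_gam le_rfl hz hx) (hN x hy) (by rw [inv_mul_cancel]; exact one_mem _),
      lay_comm_congr (show k + (i + j + 1) + 1 = n by omega) hz (mem1 y hz) (comm_mem_gam le_rfl hx hy)
        (comm_mem_gam le_rfl hx hy) (hN y hz) (by rw [inv_mul_cancel]; exact one_mem _)]
    rw [add_comm (lay n ⁅z * x * z⁻¹, ⁅y, z⁆⁆ _) (lay n ⁅x * y * x⁻¹, ⁅z, x⁆⁆ _), ← lay_mul, ← lay_mul,
      ← lay_one]
    exact lay_mem_eq (commutatorElement_conj_commutatorElement_mul x y z) _ _
  · rw [br_of_ne (by omega), br_of_ne (by omega), br_of_ne (by omega), add_zero, add_zero]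

theorem gbr_add_left (x x' y : GLie G c) : gbr (x + x') y = gbr x y + gbr x' y := by
  refine GLie.ext fun n => ?_
  show ∑ i : Fin c, ∑ j : Fin c, br (i : ℕ) (j : ℕ) (n : ℕ) (x i + x' i) (y j) = gbr x y n + gbr x' y n
  simp only [br_add_left, Finset.sum_add_distrib]
  rfl

theorem gbr_add_right (x y y' : GLie G c) : gbr x (y + y') = gbr x y + gbr x y' := by
  refine GLie.ext fun n => ?_
  show ∑ i : Fin c, ∑ j : Fin c, br (i : ℕ) (j : ℕ) (n : ℕ) (x i) (y j + y' j) = gbr x y n + gbr x y' n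
  simp only [br_add_right, Finset.sum_add_distrib]
  rfl

theorem gbr_self (x : GLie G c) : gbr x x = 0 := by
  refine GLie.ext fun n => ?_
  show ∑ i : Fin c, ∑ j : Fin c, br (i : ℕ) (j : ℕ) (n : ℕ) (x i) (x j) = 0
  rw [← Finset.sum_product']
  refine Finset.sum_involution (fun a _ => (a.2, a.1)) ?_ ?_ ?_ ?_
  · intro a _
    show br (a.1 : ℕ) (a.2 : ℕ) n (x a.1) (x a.2) + br (a.2 : ℕ) (a.1 : ℕ) n (x a.2) (x a.1) = 0
    rw [br_swap _ _ _ (x a.1) (x a.2), add_neg_cancel]
  · intro a _ hne he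
    apply hne
    have h12 : a.2 = a.1 := congrArg Prod.fst he
    rw [h12, br_self]
  · intro a _; exact Finset.mem_product.2 ⟨Finset.mem_univ _, Finset.mem_univ _⟩
  · intro a _; rfl

theorem gbr_jacobi (x y z : GLie G c) :
    gbr x (gbr y z) + gbr y (gbr z x) + gbr z (gbr x y) = 0 := by
  refine GLie.ext fun n => ?_
  show gbr x (gbr y z) n + gbr y (gbr z x) n + gbr z (gbr x y) n = 0
  have expand : ∀ u v w : GLie G c, gbr u (gbr v w) n =
      ∑ i : Fin c, ∑ j : Fin c, ∑ k : Fin c, tr (i : ℕ) (j : ℕ) (k : ℕ) (n : ℕ) (u i) (v j) (w k) := by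
    intro u v w
    show ∑ i : Fin c, ∑ m : Fin c, br (i : ℕ) (m : ℕ) (n : ℕ) (u i) (gbr v w m) = _
    refine Finset.sum_congr rfl fun i _ => ?_
    have hadd : ∀ m : Fin c, br (i : ℕ) (m : ℕ) (n : ℕ) (u i) (gbr v w m) =
        ∑ j : Fin c, ∑ k : Fin c, br (i : ℕ) (m : ℕ) (n : ℕ) (u i)
          (br (j : ℕ) (k : ℕ) (m : ℕ) (v j) (w k)) := by
      intro m
      let f : Layer G m →+ Layer G n := AddMonoidHom.mk' (br (i : ℕ) (m : ℕ) (n : ℕ) (u i)) (br_add_right _ _ _ _)
      show f (∑ j : Fin c, ∑ k : Fin c, _) = ∑ j : Fin c, ∑ k : Fin c, f _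
      simp only [map_sum]
    simp only [hadd]
    rw [Finset.sum_comm]
    refine Finset.sum_congr rfl fun j _ => ?_
    rw [Finset.sum_comm]
    exact Finset.sum_congr rfl fun k _ => sum_br_br_right n _ _ _ _ _ _
  rw [expand x y z, expand y z x, expand z x y]
  have h2 : ∑ i : Fin c, ∑ j : Fin c, ∑ k : Fin c, tr (i : ℕ) (j : ℕ) (k : ℕ) (n : ℕ) (y i) (z j) (x k) =
      ∑ k : Fin c, ∑ i : Fin c, ∑ j : Fin c, tr (i : ℕ) (j : ℕ) (k : ℕ) (n : ℕ) (y i) (z j) (x k) := by
    rw [Finset.sum_comm (s := (Finset.univ : Finset (Fin c))) (t := (Finset.univ : Finset (Fin c)))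
      (f := fun k i => ∑ j : Fin c, tr (i : ℕ) (j : ℕ) (k : ℕ) (n : ℕ) (y i) (z j) (x k))]
    exact Finset.sum_congr rfl fun i _ => Finset.sum_comm
  have h3 : ∑ i : Fin c, ∑ j : Fin c, ∑ k : Fin c, tr (i : ℕ) (j : ℕ) (k : ℕ) (n : ℕ) (z i) (x j) (y k) =
      ∑ j : Fin c, ∑ k : Fin c, ∑ i : Fin c, tr (i : ℕ) (j : ℕ) (k : ℕ) (n : ℕ) (z i) (x j) (y k) := by
    rw [Finset.sum_comm]
    exact Finset.sum_congr rfl fun j _ => Finset.sum_comm
  rw [h2, h3]
  simp only [← Finset.sum_add_distrib, jacobi_tr, Finset.sum_const_zero]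

theorem gbr_swap (x y : GLie G c) : gbr y x = - gbr x y := by
  have h := gbr_self (x + y)
  rw [gbr_add_left, gbr_add_right, gbr_add_right, gbr_self, gbr_self, zero_add, add_zero] at h
  exact eq_neg_of_add_eq_zero_right h

theorem gbr_neg_right (x y : GLie G c) : gbr x (-y) = - gbr x y := by
  let f : GLie G c →+ GLie G c := AddMonoidHom.mk' (gbr x) (gbr_add_right x)
  exact map_neg f y

noncomputable instance : LieRing (GLie G c) where
  bracket := gbr
  add_lie := gbr_add_left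
  lie_add := gbr_add_right
  lie_self := gbr_self
  leibniz_lie x y z := by
    show gbr x (gbr y z) = gbr (gbr x y) z + gbr y (gbr x z)
    have h := gbr_jacobi x y z
    rw [gbr_swap x z, gbr_neg_right, gbr_swap (gbr x y) z] at h
    rw [← sub_eq_zero, ← h]
    abel

/-- The embedding of a layer. -/
noncomputable def emb (n : Fin c) : Layer G n →+ GLie G c :=
  AddMonoidHom.single (fun m : Fin c => Layer G m) n

theorem emb_same (n : Fin c) (a : Layer G n) : emb n a n = a := Pi.single_eq_same (M := fun m : Fin c => Layer G m) n a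

theorem emb_of_ne {n m : Fin c} (h : m ≠ n) (a : Layer G n) : emb n a m = 0 :=
  Pi.single_eq_of_ne (M := fun m : Fin c => Layer G m) h a

theorem lie_emb (i j n : Fin c) (h : (i : ℕ) + j + 1 = n) (a : Layer G i) (b : Layer G j) :
    ⁅emb i a, emb j b⁆ = emb n (br (i : ℕ) (j : ℕ) (n : ℕ) a b) := by
  refine GLie.ext fun m => ?_
  show ∑ i' : Fin c, ∑ j' : Fin c, br (i' : ℕ) (j' : ℕ) (m : ℕ) (emb i a i') (emb j b j') = _
  rw [Finset.sum_eq_single i, Finset.sum_eq_single j, emb_same, emb_same]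
  · by_cases hm : m = n
    · subst hm; rw [emb_same]
    · rw [emb_of_ne hm, br_of_ne fun he => hm (Fin.ext (by omega))]
  · intro j' _ hj; rw [emb_of_ne hj, br_zero_right]
  · exact fun h' => absurd (Finset.mem_univ _) h'
  · intro i' _ hi
    exact Finset.sum_eq_zero fun j' _ => by rw [emb_of_ne hi, br_zero_left]
  · exact fun h' => absurd (Finset.mem_univ _) h'

/-- The lower central series of a Lie ring, as additive subgroups. -/
def lieLcs (L : Type*) [LieRing L] : ℕ → AddSubgroup L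
  | 0 => ⊤
  | m + 1 => bk (lieLcs L m) ⊤

theorem emb_mem_lieLcs : ∀ (n : ℕ) (hn : n < c) (g : G) (hg : g ∈ gam G n),
    emb (⟨n, hn⟩ : Fin c) (lay n g hg) ∈ lieLcs (GLie G c) n := by
  intro n
  induction n with
  | zero => intro _ _ _; trivial
  | succ n ih =>
    intro hn g hg
    let T : Subgroup G :=
      { carrier := {x | ∃ hx : x ∈ gam G (n + 1),
          emb (⟨n + 1, hn⟩ : Fin c) (lay (n + 1) x hx) ∈ lieLcs (GLie G c) (n + 1)}
        one_mem' := ⟨one_mem _, by rw [lay_one, map_zero]; exact zero_mem _⟩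
        mul_mem' := fun ⟨hx, hx'⟩ ⟨hy, hy'⟩ =>
          ⟨mul_mem hx hy, by rw [lay_mul hx hy, map_add]; exact add_mem hx' hy'⟩
        inv_mem' := fun ⟨hx, hx'⟩ =>
          ⟨inv_mem hx, by rw [lay_inv hx, map_neg]; exact neg_mem hx'⟩ }
    have hle : gam G (n + 1) ≤ T := by
      rw [show gam G (n + 1) = ⁅gam G n, (⊤ : Subgroup G)⁆ from rfl, Subgroup.commutator_le]
      intro u hu v _
      refine ⟨comm_mem_gam (i := n) (j := 0) (by omega) hu (Subgroup.mem_top v), ?_⟩
      have h0 : 0 < c := by omega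
      rw [← br_lay (i := n) (j := 0) (n := n + 1) (by omega) hu (show v ∈ gam G 0 from Subgroup.mem_top v),
        ← lie_emb (⟨n, by omega⟩ : Fin c) (⟨0, h0⟩ : Fin c) ⟨n + 1, hn⟩ rfl]
      exact lie_mem_bk (ih (by omega) u hu) (AddSubgroup.mem_top _)
    obtain ⟨_, h⟩ := hle hg
    exact h

theorem nsmul_card_eq_zero [Finite G] (x : GLie G c) : Nat.card G • x = 0 := by
  refine GLie.ext fun n => ?_
  show Nat.card G • x n = 0
  have h : Nat.card (Layer G n) ∣ Nat.card G :=
    (Subgroup.card_quotient_dvd_card _).trans (Subgroup.card_subgroup_dvd_card _)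
  obtain ⟨t, ht⟩ := h
  rw [ht, mul_nsmul, card_nsmul_eq_zero', nsmul_zero]

theorem map_mem_gam (φ : G →* G) {n : ℕ} {x : G} (hx : x ∈ gam G n) : φ x ∈ gam G n := by
  have h := Subgroup.mem_map_of_mem φ hx
  rw [Subgroup.map_lowerCentralSeries] at h
  exact Subgroup.lowerCentralSeries_mono n (le_top (a := (⊤ : Subgroup G).map φ)) h

/-- The map induced on a layer. -/
noncomputable def layerMap (φ : G →* G) (n : ℕ) : Layer G n →+ Layer G n :=
  MonoidHom.toAdditive (QuotientGroup.map ((gam G (n + 1)).subgroupOf (gam G n))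
    ((gam G (n + 1)).subgroupOf (gam G n))
    ({ toFun := fun x => ⟨φ x, map_mem_gam φ x.2⟩
       map_one' := Subtype.ext (map_one φ)
       map_mul' := fun x y => Subtype.ext (map_mul φ _ _) } : gam G n →* gam G n)
    (fun x hx => Subgroup.mem_comap.2 (Subgroup.mem_subgroupOf.2
      (map_mem_gam φ (Subgroup.mem_subgroupOf.1 hx)))))

theorem layerMap_lay (φ : G →* G) {n : ℕ} {x : G} (hx : x ∈ gam G n) :
    layerMap φ n (lay n x hx) = lay n (φ x) (map_mem_gam φ hx) := rfl

/-- The map induced on the Lie ring. -/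
noncomputable def glieMap (φ : G →* G) : GLie G c →+ GLie G c where
  toFun x := fun n => layerMap φ n (x n)
  map_zero' := GLie.ext fun n => map_zero _
  map_add' x y := GLie.ext fun n => map_add (layerMap φ n) (x n) (y n)

theorem glieMap_lie (φ : G →* G) (x y : GLie G c) :
    glieMap φ ⁅x, y⁆ = ⁅glieMap φ x, glieMap φ y⁆ := by
  refine GLie.ext fun n => ?_
  show layerMap φ n (∑ i : Fin c, ∑ j : Fin c, br (i : ℕ) (j : ℕ) (n : ℕ) (x i) (y j)) =
    ∑ i : Fin c, ∑ j : Fin c, br (i : ℕ) (j : ℕ) (n : ℕ) (layerMap φ i (x i)) (layerMap φ j (y j))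
  simp only [map_sum]
  refine Finset.sum_congr rfl fun i _ => Finset.sum_congr rfl fun j _ => ?_
  by_cases h : (i : ℕ) + j + 1 = n
  · obtain ⟨u, hu, hue⟩ := lay_surjective (i : ℕ) (x i)
    obtain ⟨v, hv, hve⟩ := lay_surjective (j : ℕ) (y j)
    rw [hue, hve, br_lay h, layerMap_lay, layerMap_lay, layerMap_lay, br_lay h]
    exact lay_mem_eq (map_commutatorElement φ u v) _ _
  · rw [br_of_ne h, br_of_ne h, map_zero]

theorem glieMap_id (x : GLie G c) : glieMap (MonoidHom.id G) x = x := by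
  refine GLie.ext fun n => ?_
  obtain ⟨u, hu, hue⟩ := lay_surjective (n : ℕ) (x n)
  show layerMap (MonoidHom.id G) n (x n) = x n
  rw [hue]; rfl

theorem glieMap_comp (φ ψ : G →* G) (x : GLie G c) :
    glieMap (φ.comp ψ) x = glieMap φ (glieMap ψ x) := by
  refine GLie.ext fun n => ?_
  obtain ⟨u, hu, hue⟩ := lay_surjective (n : ℕ) (x n)
  show layerMap (φ.comp ψ) n (x n) = layerMap φ n (layerMap ψ n (x n))
  rw [hue]; rfl

end Cfsg.Agent.Lib.LieFpf
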